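import Groth.Agent.H25.Fitting
import Groth.Agent.H25.FittingProd
import Groth.Agent.Lib.Det62.Basic
import Mathlib.Algebra.Category.ModuleCat.Ext.HasExt
import Mathlib.Algebra.Category.ModuleCat.Projective
import Mathlib.Algebra.Homology.DerivedCategory.Ext.Linear
import Mathlib.Algebra.Homology.DerivedCategory.Ext.ExactSequences
import Mathlib.Algebra.Homology.DerivedCategory.Ext.EnoughProjectives
import Mathlib.RingTheory.Smooth.Field
import Mathlib.RingTheory.Smooth.Locus
import Mathlib.RingTheory.KrullDimension.Zero

/-!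
# Two-term presentations: `Ext¹` and Fitting ideals
-/

set_option autoImplicit false

universe u

open CategoryTheory CategoryTheory.Abelian TensorProduct
open Groth.Agent.H25

namespace Groth.Agent.Lib.Fit62

variable {B : Type u} [CommRing B] {M : Type u} [AddCommGroup M] [Module B M] {c r : ℕ}

theorem exists_ext_one_presentation (J : (Fin c → B) →ₗ[B] (Fin r → B)) (π : (Fin r → B) →ₗ[B] M)
    (hπ : Function.Surjective π) (hJ : Function.Injective J) (hex : Function.Exact J π) :
    ∃ Φ : (Fin c → B) →ₗ[B] Ext.{u} (ModuleCat.of B M) (ModuleCat.of B B) 1, Function.Surjective Φ ∧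
      LinearMap.ker Φ = Submodule.span B (Set.range fun i k => J (Pi.single k 1) i) := by
  classical
  let S : ShortComplex (ModuleCat.{u} B) := ShortComplex.mk (ModuleCat.ofHom J) (ModuleCat.ofHom π)
    (by ext x; exact hex.apply_apply_eq_zero _)
  have hS : S.ShortExact := by
    refine ShortComplex.ShortExact.mk' ?_ ((ModuleCat.mono_iff_injective _).2 hJ)
      ((ModuleCat.epi_iff_surjective _).2 hπ)
    rw [ShortComplex.moduleCat_exact_iff]
    intro a ha
    exact (hex a).mp ha
  have : Projective S.X₂ := (IsProjective.iff_projective (Fin r → B)).1 inferInstance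
  let Φ : (Fin c → B) →ₗ[B] Ext.{u} (ModuleCat.of B M) (ModuleCat.of B B) 1 :=
    { toFun := fun v => hS.extClass.comp (Ext.mk₀ (ModuleCat.ofHom (Fintype.linearCombination B v))) (add_zero 1)
      map_add' := fun v w => by
        rw [← Ext.comp_add, ← Ext.mk₀_add]
        congr 2
        refine ModuleCat.hom_ext (LinearMap.ext fun x => ?_)
        simp [Fintype.linearCombination_apply, mul_add, Finset.sum_add_distrib]
      map_smul' := fun t v => by
        rw [RingHom.id_apply, ← Ext.comp_smul, ← Ext.mk₀_smul]
        congr 2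
        refine ModuleCat.hom_ext (LinearMap.ext fun x => ?_)
        simp [Fintype.linearCombination_apply, Finset.mul_sum, mul_left_comm] }
  have hlin : ∀ g : (Fin c → B) →ₗ[B] B, g = Fintype.linearCombination B fun k => g (Pi.single k 1) := by
    intro g
    refine LinearMap.pi_ext' fun k => LinearMap.ext_ring ?_
    simp [Fintype.linearCombination_apply, Pi.single_apply]
  refine ⟨Φ, fun e => ?_, ?_⟩
  · obtain ⟨g, hg⟩ := Ext.contravariant_sequence_exact₃ hS (ModuleCat.of B B) e
      (Ext.eq_zero_of_projective (n := 0) _) (show 1 + 0 = 1 from rfl)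
    obtain ⟨g, rfl⟩ := (Ext.mk₀_bijective _ _).2 g
    refine ⟨fun k => g.hom (Pi.single k 1), ?_⟩
    rw [← hg]
    show hS.extClass.comp (Ext.mk₀ (ModuleCat.ofHom _)) (add_zero 1) = _
    rw [← hlin]
    rfl
  · refine le_antisymm (fun v hv => ?_) (Submodule.span_le.mpr ?_)
    · obtain ⟨g, hg⟩ := Ext.contravariant_sequence_exact₁ hS (ModuleCat.of B B) _ (add_zero 1) (LinearMap.mem_ker.mp hv)
      obtain ⟨g, rfl⟩ := (Ext.mk₀_bijective _ _).2 g
      rw [Ext.mk₀_comp_mk₀] at hg
      have hv' : ∀ k, v k = g.hom (J (Pi.single k 1)) := fun k => by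
        have e := ConcreteCategory.congr_hom ((Ext.mk₀_bijective _ _).1 hg) (Pi.single k 1 : Fin c → B)
        refine Eq.trans ?_ e.symm
        show v k = Fintype.linearCombination B v (Pi.single k 1)
        simp [Fintype.linearCombination_apply, Pi.single_apply]
      rw [Submodule.mem_span_range_iff_exists_fun]
      refine ⟨fun i => g.hom (Pi.single i 1), funext fun k => ?_⟩
      rw [hv' k]
      conv_rhs => rw [pi_eq_sum_univ' (J (Pi.single k 1))]
      simp [map_sum, mul_comm]
    · rintro _ ⟨i, rfl⟩
      show Φ (fun k => J (Pi.single k 1) i) = 0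
      have hf : ModuleCat.ofHom (Fintype.linearCombination B fun k => J (Pi.single k 1) i) =
          S.f ≫ ModuleCat.ofHom (LinearMap.proj i) :=
        ModuleCat.hom_ext (hlin ((LinearMap.proj i).comp J)).symm
      show hS.extClass.comp (Ext.mk₀ (ModuleCat.ofHom (Fintype.linearCombination B fun k => J (Pi.single k 1) i))) (add_zero 1) = 0
      rw [hf, ← Ext.mk₀_comp_mk₀, ← Ext.comp_assoc_of_second_deg_zero, hS.extClass_comp, Ext.zero_comp]

/-- For a module with a two-term free resolution, the `(r-c)`-th Fitting ideal is the `0`-th Fitting ideal of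
`Ext¹`. -/
theorem fitt_eq_fitt_ext [Nontrivial B] (J : (Fin c → B) →ₗ[B] (Fin r → B)) (π : (Fin r → B) →ₗ[B] M)
    (hπ : Function.Surjective π) (hJ : Function.Injective J) (hex : Function.Exact J π) :
    Fitt.ideal B M (r - c) = Fitt.ideal B (Ext.{u} (ModuleCat.of B M) (ModuleCat.of B B) 1) 0 := by
  classical
  have hcr : c ≤ r := le_of_fin_injective B J hJ
  obtain ⟨Φ, hΦ, hker⟩ := exists_ext_one_presentation J π hπ hJ hex
  have span_of : ∀ {n : ℕ} {N : Type u} [AddCommGroup N] [Module B N] (f : (Fin n → B) →ₗ[B] N),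
      Function.Surjective f → Submodule.span B (Set.range fun i => f (Pi.single i 1)) = ⊤ := by
    intro n N _ _ f hf
    rw [show (fun i => f (Pi.single i 1)) = f ∘ fun i => Pi.basisFun B (Fin n) i from
      funext fun i => by simp]
    exact Fitting.span_range_comp f hf _ (Pi.basisFun B (Fin n)).span_eq
  have rel_of : ∀ {n : ℕ} {N : Type u} [AddCommGroup N] [Module B N] (f : (Fin n → B) →ₗ[B] N),
      Fitting.rel (R := B) (fun i => f (Pi.single i 1)) = LinearMap.ker f := by
    intro n N _ _ f
    ext v
    rw [Fitting.mem_rel, LinearMap.mem_ker]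
    conv_rhs => rw [pi_eq_sum_univ' v]
    simp [map_sum]
  have hrange : LinearMap.ker π = Submodule.span B (Set.range fun k i => J (Pi.single k 1) i) := by
    rw [hex.linearMap_ker_eq]
    refine le_antisymm ?_ (Submodule.span_le.mpr ?_)
    · rintro _ ⟨v, rfl⟩
      rw [pi_eq_sum_univ' v, map_sum]
      exact Submodule.sum_mem _ fun k _ => by
        rw [map_smul]; exact Submodule.smul_mem _ _ (Submodule.subset_span ⟨k, rfl⟩)
    · rintro _ ⟨k, rfl⟩
      exact ⟨Pi.single k 1, rfl⟩
  rw [Fitting.ideal_eq_of_rel _ (span_of π hπ) _ ((rel_of π).trans hrange) (r - c),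
    Fitting.ideal_eq_of_rel _ (span_of Φ hΦ) _ ((rel_of Φ).trans hker) 0,
    show r - (r - c) = c by omega, Nat.sub_zero, Fitting.Mn_range_transpose]

/-- For a reduced quotient of a formally smooth algebra over a perfect field, every element killed by
`I/I² → B ⊗ Ω` is killed outside each minimal prime. -/
theorem exists_smul_eq_zero_of_mem_ker {k P A : Type u} [Field k] [PerfectField k] [CommRing P] [Algebra k P]
    [Algebra.FormallySmooth k P] [CommRing A] [IsReduced A] [Algebra k A] [Algebra.EssFiniteType k A]
    [Algebra P A] [IsScalarTower k P A] (hf : Function.Surjective (algebraMap P A))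
    (x : (RingHom.ker (algebraMap P A)).Cotangent)
    (hx : KaehlerDifferential.kerCotangentToTensor k P A x = 0) (q : Ideal A) (hq : q ∈ minimalPrimes A) :
    ∃ s : P, algebraMap P A s ∉ q ∧ s • x = 0 := by
  classical
  haveI : q.IsPrime := Ideal.minimalPrimes_isPrime hq
  haveI : Ring.KrullDimLE 0 (Localization.AtPrime q) :=
    .of_isLocalization _ hq _
  haveI : Algebra.FormallySmooth k (Localization.AtPrime q) := by
    letI : Field (Localization.AtPrime q) :=
      (Ring.KrullDimLE.isField_of_isReduced (R := Localization.AtPrime q)).toField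
    haveI : Algebra.EssFiniteType A (Localization.AtPrime q) := .of_isLocalization _ q.primeCompl
    haveI : Algebra.EssFiniteType k (Localization.AtPrime q) := .comp _ A _
    exact Algebra.FormallySmooth.of_perfectField
  let P' : Algebra.Extension k A := ⟨P, _, Function.surjInv_eq hf⟩
  haveI : Algebra.FormallySmooth k P'.Ring := ‹Algebra.FormallySmooth k P›
  let y : P'.H1Cotangent := ⟨Algebra.Extension.Cotangent.of x, hx⟩
  obtain ⟨s, hs, hsy⟩ := (IsLocalizedModule.subsingleton_iff q.primeCompl
    (Algebra.H1Cotangent.map k k A (Localization.AtPrime q))).mp inferInstance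
      (P'.equivH1CotangentOfFormallySmooth y)
  have h0 : s • y = 0 := P'.equivH1CotangentOfFormallySmooth.injective (by rw [map_smul, hsy, map_zero])
  refine ⟨P'.σ s, fun h => hs ((Function.surjInv_eq hf s).symm ▸ h), ?_⟩
  have h1 := congrArg (fun z => Algebra.Extension.Cotangent.val (Algebra.Extension.h1Cotangentι z)) h0
  exact h1

end Groth.Agent.Lib.Fit62
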