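import Groth.Agent.Lib.Fit62.Basic
import Groth.Agent.Lib.Adic.Complete
import Groth.Agent.Lib.FSAdic.Completion
import Mathlib.RingTheory.AdicCompletion.Functoriality
import Mathlib.RingTheory.AdicCompletion.Completeness
import Mathlib.RingTheory.Flat.Basic

/-!
# Differentials of quotients of restricted power series rings
-/

set_option autoImplicit false
set_option linter.unusedSectionVars false

noncomputable section

universe u

open TensorProduct MvPolynomial
open scoped Pointwise

namespace Groth.Agent.Lib.Fit62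

variable {R : Type u} [CommRing R] (t : R) {r c : ℕ}

abbrev PI (r : ℕ) : Ideal (MvPolynomial (Fin r) R) := Ideal.span {(MvPolynomial.C t : MvPolynomial (Fin r) R)}

abbrev RP (r : ℕ) : Type u := AdicCompletion (PI t r) (MvPolynomial (Fin r) R)

variable (a : Fin c → RP t r) {B : Type u} [CommRing B] [Algebra R B] (ψ : RP t r →ₐ[R] B)

abbrev xB (B : Type u) [CommRing B] [Algebra R B] : B := algebraMap R B t

theorem map_PI_pow (n : ℕ) :
    ((PI t r).map (algebraMap (MvPolynomial (Fin r) R) (RP t r))) ^ n = Ideal.span {algebraMap R (RP t r) t ^ n} := by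
  rw [Ideal.map_span, Set.image_singleton, Ideal.span_singleton_pow,
    IsScalarTower.algebraMap_apply R (MvPolynomial (Fin r) R) (RP t r) t, MvPolynomial.algebraMap_eq]

theorem PI_pow (n : ℕ) : (PI t r) ^ n = Ideal.span {(MvPolynomial.C (t ^ n) : MvPolynomial (Fin r) R)} := by
  rw [Ideal.span_singleton_pow, map_pow]

theorem evalₐ_eq_zero_iff' (n : ℕ) (q : RP t r) :
    AdicCompletion.evalₐ (PI t r) n q = 0 ↔ ∃ w, q = algebraMap R (RP t r) t ^ n * w := by
  rw [FSAdic.Completion.evalₐ_eq_zero_iff (Submodule.fg_span_singleton _) n q, map_PI_pow,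
    Ideal.mem_span_singleton]
  rfl

theorem exists_lift' (n : ℕ) (q : RP t r) : ∃ p : MvPolynomial (Fin r) R, ∃ w,
    q = algebraMap _ (RP t r) p + algebraMap R (RP t r) t ^ n * w := by
  obtain ⟨p, hp⟩ := FSAdic.Completion.exists_sub_mem (𝔟 := PI t r) (Submodule.fg_span_singleton _) n q
  rw [map_PI_pow, Ideal.mem_span_singleton] at hp
  obtain ⟨w, hw⟩ := hp
  exact ⟨p, w, by rw [← hw]; ring⟩

/-- A polynomial congruent to `a j` modulo `t ^ n`. -/
def lft (n : ℕ) (j : Fin c) : MvPolynomial (Fin r) R := (exists_lift' t n (a j)).choose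

theorem lft_spec (n : ℕ) (j : Fin c) :
    ∃ w, a j = algebraMap _ (RP t r) (lft t a n j) + algebraMap R (RP t r) t ^ n * w :=
  (exists_lift' t n (a j)).choose_spec

theorem evalₐ_apply_eq (n : ℕ) (j : Fin c) :
    AdicCompletion.evalₐ (PI t r) n (a j) = Ideal.Quotient.mk _ (lft t a n j) := by
  obtain ⟨w, hw⟩ := lft_spec t a n j
  rw [hw, map_add, (evalₐ_eq_zero_iff' t n _).2 ⟨w, rfl⟩, add_zero, AlgHom.commutes]
  rfl

theorem lft_compat (n : ℕ) (j : Fin c) : lft t a (n + 1) j - lft t a n j ∈ (PI t r) ^ n := by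
  obtain ⟨w, hw⟩ := lft_spec t a (n + 1) j
  have h := evalₐ_apply_eq t a n j
  rw [hw, map_add, AlgHom.commutes, (evalₐ_eq_zero_iff' t n _).2 ⟨algebraMap R (RP t r) t * w, by ring⟩,
    add_zero] at h
  exact Ideal.Quotient.eq.mp h

/-- The composite `R[T] → B`. -/
def toB : MvPolynomial (Fin r) R →ₐ[R] B := ψ.comp (IsScalarTower.toAlgHom R _ (RP t r))

theorem toB_lft (hker : RingHom.ker ψ.toRingHom = Ideal.span (Set.range a)) (n : ℕ) (j : Fin c) :
    toB t ψ (lft t a n j) ∈ Ideal.span {xB t B ^ n} := by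
  obtain ⟨w, hw⟩ := lft_spec t a n j
  have h0 : ψ (a j) = 0 := hker.ge (Ideal.subset_span ⟨j, rfl⟩)
  rw [hw, map_add, map_mul, map_pow, AlgHom.commutes] at h0
  exact Ideal.mem_span_singleton.mpr ⟨-ψ w, by
    show ψ (algebraMap _ (RP t r) (lft t a n j)) = _
    linear_combination h0⟩

theorem toB_surj (hψ : Function.Surjective ψ) (n : ℕ) (b : B) :
    ∃ p b', b = toB t ψ p + xB t B ^ n * b' := by
  obtain ⟨q, rfl⟩ := hψ b
  obtain ⟨p, w, hw⟩ := exists_lift' t n q
  exact ⟨p, ψ w, by rw [hw, map_add, map_mul, map_pow, AlgHom.commutes]; rfl⟩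

theorem mem_of_toB_mem (hψ : Function.Surjective ψ) (hker : RingHom.ker ψ.toRingHom = Ideal.span (Set.range a))
    {n : ℕ} {p : MvPolynomial (Fin r) R} (hp : toB t ψ p ∈ Ideal.span {xB t B ^ n}) :
    p ∈ Ideal.span (Set.range (lft t a n) ∪ {MvPolynomial.C (t ^ n)}) := by
  obtain ⟨b, hb⟩ := Ideal.mem_span_singleton.mp hp
  obtain ⟨q, rfl⟩ := hψ b
  have hz : algebraMap _ (RP t r) p - algebraMap R (RP t r) t ^ n * q ∈ Ideal.span (Set.range a) := by
    rw [← hker, RingHom.mem_ker]
    show ψ _ = 0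
    rw [map_sub, map_mul, map_pow, AlgHom.commutes, sub_eq_zero]
    exact hb
  obtain ⟨co, hco⟩ := (Submodule.mem_span_range_iff_exists_fun _).mp hz
  have h := congrArg (AdicCompletion.evalₐ (PI t r) n) hco
  rw [map_sub, AlgHom.commutes, (evalₐ_eq_zero_iff' t n _).2 ⟨q, rfl⟩, sub_zero, map_sum] at h
  choose d hd using fun j => Ideal.Quotient.mk_surjective (AdicCompletion.evalₐ (PI t r) n (co j))
  simp only [smul_eq_mul, map_mul, evalₐ_apply_eq, ← hd] at h
  simp only [← map_mul, ← map_sum] at h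
  have h2 : ∑ j, d j * lft t a n j - p ∈ (PI t r) ^ n := Ideal.Quotient.eq.mp h
  rw [PI_pow] at h2
  have h3 := sub_mem (Submodule.sum_mem _ (fun j _ => Ideal.mul_mem_left _ (d j)
    (Ideal.subset_span (Set.mem_union_left _ ⟨j, rfl⟩))) :
      ∑ j, d j * lft t a n j ∈ Ideal.span (Set.range (lft t a n) ∪ {MvPolynomial.C (t ^ n)}))
    (Ideal.span_mono Set.subset_union_right h2)
  simpa using h3

theorem toB_pderiv_congr {n : ℕ} {p p' : MvPolynomial (Fin r) R} (h : p - p' ∈ (PI t r) ^ n) (i : Fin r) :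
    toB t ψ (pderiv i p) - toB t ψ (pderiv i p') ∈ Ideal.span {xB t B ^ n} := by
  rw [PI_pow, Ideal.mem_span_singleton] at h
  obtain ⟨q, hq⟩ := h
  rw [← map_sub, ← map_sub, hq, pderiv_C_mul, Ideal.mem_span_singleton]
  exact ⟨toB t ψ (pderiv i q), by rw [map_mul, show toB t ψ (MvPolynomial.C (t ^ n)) = _ from
    (toB t ψ).commutes (t ^ n), map_pow]⟩

theorem smodEq_iff {M : Type u} [AddCommGroup M] [Module B M] (x : B) (n : ℕ) (m m' : M) :
    m ≡ m' [SMOD (Ideal.span {x} ^ n • ⊤ : Submodule B M)] ↔ ∃ w, m - m' = x ^ n • w := by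
  rw [SModEq.sub_mem, Ideal.span_singleton_pow, Submodule.ideal_span_singleton_smul,
    Submodule.mem_smul_pointwise_iff_exists]
  exact ⟨fun ⟨w, _, hw⟩ => ⟨w, hw.symm⟩, fun ⟨w, hw⟩ => ⟨w, trivial, hw.symm⟩⟩

theorem exists_jac [IsPrecomplete (Ideal.span {xB t B}) B] (i : Fin r) (j : Fin c) :
    ∃ L : B, ∀ n, L - toB t ψ (pderiv i (lft t a n j)) ∈ Ideal.span {xB t B ^ n} := by
  let f : ℕ → B := fun n => toB t ψ (pderiv i (lft t a n j))
  have hs : ∀ n, f (n + 1) - f n ∈ Ideal.span {xB t B ^ n} := fun n =>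
    toB_pderiv_congr t ψ (lft_compat t a n j) i
  have hmn : ∀ {m n}, m ≤ n → f n - f m ∈ Ideal.span {xB t B ^ m} := by
    intro m n h
    induction h with
    | refl => rw [sub_self]; exact zero_mem _
    | step h ih =>
      have h2 := Ideal.mem_of_dvd (Ideal.span {xB t B ^ m}) (pow_dvd_pow (xB t B) h) (Ideal.subset_span rfl)
      have h3 := (Ideal.span_singleton_le_iff_mem _).mpr h2 (hs _)
      simpa using add_mem h3 ih
  have hI : ∀ n, (Ideal.span {xB t B} ^ n • ⊤ : Submodule B B) = Ideal.span {xB t B ^ n} := fun n => by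
    rw [Ideal.span_singleton_pow, smul_eq_mul, Ideal.mul_top]
  obtain ⟨L, hL⟩ := IsPrecomplete.prec (I := Ideal.span {xB t B}) inferInstance (f := f) fun {m n} h => by
    rw [SModEq.sub_mem, hI, ← neg_sub]
    exact neg_mem (hmn h)
  refine ⟨L, fun n => ?_⟩
  have := SModEq.sub_mem.mp (hL n)
  rw [hI, ← neg_mem_iff, neg_sub] at this
  exact this

variable [IsPrecomplete (Ideal.span {xB t B}) B]

/-- Entries of the Jacobian matrix. -/
def jc (i : Fin r) (j : Fin c) : B := (exists_jac t a ψ i j).choose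

/-- The Jacobian map. -/
def jac : (Fin c → B) →ₗ[B] (Fin r → B) := Fintype.linearCombination B fun j i => jc t a ψ i j

theorem jc_spec (n : ℕ) (i : Fin r) (j : Fin c) :
    ∃ w, jc t a ψ i j = toB t ψ (pderiv i (lft t a n j)) + xB t B ^ n * w := by
  obtain ⟨w, hw⟩ := Ideal.mem_span_singleton.mp ((exists_jac t a ψ i j).choose_spec n)
  exact ⟨w, by rw [← hw]; unfold jc; ring⟩

/-- `B^r → Ω_{B/R}`. -/
def dlt : (Fin r → B) →ₗ[B] KaehlerDifferential R B :=
  Fintype.linearCombination B fun i => KaehlerDifferential.D R B (toB t ψ (MvPolynomial.X i))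

theorem D_toB (p : MvPolynomial (Fin r) R) :
    KaehlerDifferential.D R B (toB t ψ p) = dlt t ψ (fun i => toB t ψ (pderiv i p)) := by
  classical
  letI : Algebra (MvPolynomial (Fin r) R) B := (toB t ψ).toRingHom.toAlgebra
  haveI : IsScalarTower R (MvPolynomial (Fin r) R) B :=
    IsScalarTower.of_algebraMap_eq fun x => ((toB t ψ).commutes x).symm
  have hb : KaehlerDifferential.D R (MvPolynomial (Fin r) R) p =
      ∑ i, pderiv i p • KaehlerDifferential.D R (MvPolynomial (Fin r) R) (MvPolynomial.X i) := by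
    conv_lhs => rw [← (KaehlerDifferential.mvPolynomialBasis R (Fin r)).sum_repr (KaehlerDifferential.D _ _ p)]
    simp only [KaehlerDifferential.mvPolynomialBasis_repr_apply, KaehlerDifferential.mvPolynomialBasis_apply]
  have h := congrArg (KaehlerDifferential.map R R (MvPolynomial (Fin r) R) B) hb
  simp only [map_sum, map_smul, KaehlerDifferential.map_D] at h
  refine h.trans ?_
  simp only [dlt, Fintype.linearCombination_apply]
  exact Finset.sum_congr rfl fun i _ => (algebraMap_smul B _ _).symm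

theorem D_xpow_mul (n : ℕ) (b : B) :
    KaehlerDifferential.D R B (xB t B ^ n * b) = xB t B ^ n • KaehlerDifferential.D R B b := by
  rw [show xB t B ^ n * b = (t ^ n : R) • b by rw [Algebra.smul_def, map_pow], Derivation.map_smul,
    ← algebraMap_smul B, map_pow]

theorem dlt_jac (hψ : Function.Surjective ψ) (hker : RingHom.ker ψ.toRingHom = Ideal.span (Set.range a))
    (n : ℕ) (v : Fin c → B) : ∃ w, dlt t ψ (jac t a ψ v) = xB t B ^ n • w := by
  suffices h : ∀ j, ∃ w, dlt t ψ (fun i => jc t a ψ i j) = xB t B ^ n • w by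
    choose w hw using h
    refine ⟨∑ j, v j • w j, ?_⟩
    simp only [jac, Fintype.linearCombination_apply, map_sum, map_smul, hw, Finset.smul_sum]
    exact Finset.sum_congr rfl fun j _ => smul_comm _ _ _
  intro j
  choose w hw using fun i => jc_spec t a ψ n i j
  obtain ⟨u', hu'⟩ := Ideal.mem_span_singleton.mp (toB_lft t a ψ hker n j)
  refine ⟨KaehlerDifferential.D R B u' + dlt t ψ w, ?_⟩
  rw [show (fun i => jc t a ψ i j) = (fun i => toB t ψ (pderiv i (lft t a n j))) + xB t B ^ n • w from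
    funext fun i => hw i, map_add, map_smul, ← D_toB, hu', D_xpow_mul, smul_add]

theorem exists_dlt_eq (hψ : Function.Surjective ψ) (n : ℕ) (y : KaehlerDifferential R B) :
    ∃ v w, y = dlt t ψ v + xB t B ^ n • w := by
  have hy : y ∈ LinearMap.range (dlt t ψ) ⊔ xB t B ^ n • (⊤ : Submodule B (KaehlerDifferential R B)) := by
    have h := KaehlerDifferential.span_range_derivation R B
    refine (Submodule.span_le.mpr ?_) (h.ge (Submodule.mem_top (x := y)))
    rintro _ ⟨b, rfl⟩
    obtain ⟨p, b', rfl⟩ := toB_surj t ψ hψ n b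
    rw [map_add, D_toB, D_xpow_mul]
    exact add_mem (Submodule.mem_sup_left ⟨_, rfl⟩)
      (Submodule.mem_sup_right (Submodule.smul_mem_pointwise_smul _ _ _ trivial))
  obtain ⟨_, ⟨v, rfl⟩, _, hw, rfl⟩ := Submodule.mem_sup.mp hy
  obtain ⟨w, _, rfl⟩ := (Submodule.mem_smul_pointwise_iff_exists _ _ _).mp hw
  exact ⟨v, w, rfl⟩

/-- `range jac + x ^ n`. -/
def NN (n : ℕ) : Submodule B (Fin r → B) := LinearMap.range (jac t a ψ) ⊔ xB t B ^ n • ⊤

theorem xpow_mem_NN (n : ℕ) (w : Fin r → B) : xB t B ^ n • w ∈ NN t a ψ n :=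
  Submodule.mem_sup_right (Submodule.smul_mem_pointwise_smul _ _ _ trivial)

theorem dlt_eq_smul_imp (hψ : Function.Surjective ψ) (hker : RingHom.ker ψ.toRingHom = Ideal.span (Set.range a))
    (n : ℕ) (v : Fin r → B) (y : KaehlerDifferential R B) (hv : dlt t ψ v = xB t B ^ n • y) :
    v ∈ NN t a ψ n := by
  classical
  have mem_of_mem : ∀ (g : B) (w : Fin r → B), g ∈ Ideal.span {xB t B ^ n} → g • w ∈ NN t a ψ n := by
    intro g w hg
    obtain ⟨g', rfl⟩ := Ideal.mem_span_singleton.mp hg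
    rw [mul_smul]
    exact xpow_mem_NN t a ψ n _
  let S : Ideal (MvPolynomial (Fin r) R) :=
    { carrier := {p | toB t ψ p ∈ Ideal.span {xB t B ^ n} ∧ (fun i => toB t ψ (pderiv i p)) ∈ NN t a ψ n}
      zero_mem' := ⟨by simp, by simp; exact zero_mem _⟩
      add_mem' := fun {p q} hp hq => ⟨by rw [map_add]; exact add_mem hp.1 hq.1, by
        convert add_mem hp.2 hq.2 using 1
        funext i; simp⟩
      smul_mem' := fun g p hp => ⟨by rw [smul_eq_mul, map_mul]; exact Ideal.mul_mem_left _ _ hp.1, by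
        have e : (fun i => toB t ψ (pderiv i (g • p))) =
            toB t ψ g • (fun i => toB t ψ (pderiv i p)) + toB t ψ p • (fun i => toB t ψ (pderiv i g)) := by
          funext i
          simp [smul_eq_mul, pderiv_mul]
        rw [e]
        exact add_mem (Submodule.smul_mem _ _ hp.2) (mem_of_mem _ _ hp.1)⟩ }
  have hS : ∀ p, toB t ψ p ∈ Ideal.span {xB t B ^ n} → (fun i => toB t ψ (pderiv i p)) ∈ NN t a ψ n := by
    intro p hp
    refine (Ideal.span_le (I := S).mpr ?_ (mem_of_toB_mem t a ψ hψ hker hp)).2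
    rintro q (⟨j, rfl⟩ | rfl)
    · refine ⟨toB_lft t a ψ hker n j, ?_⟩
      choose w hw using fun i => jc_spec t a ψ n i j
      rw [show (fun i => toB t ψ (pderiv i (lft t a n j))) = (fun i => jc t a ψ i j) - xB t B ^ n • w from
        funext fun i => by simp [hw i]]
      refine sub_mem (Submodule.mem_sup_left ⟨Pi.single j 1, ?_⟩) (xpow_mem_NN t a ψ n w)
      simp [jac, Fintype.linearCombination_apply, Pi.single_apply]
    · refine ⟨?_, ?_⟩
      · rw [show toB t ψ (MvPolynomial.C (t ^ n)) = xB t B ^ n by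
          rw [← MvPolynomial.algebraMap_eq, AlgHom.commutes, map_pow]]
        exact Ideal.subset_span rfl
      · simp only [pderiv_C, map_zero]
        exact zero_mem _
  let f : MvPolynomial (Fin r) R → (Fin r → B) ⧸ NN t a ψ n :=
    fun p => Submodule.Quotient.mk fun i => toB t ψ (pderiv i p)
  have hcongr : ∀ p q, toB t ψ p - toB t ψ q ∈ Ideal.span {xB t B ^ n} → f p = f q := by
    intro p q h
    rw [← map_sub] at h
    refine (Submodule.Quotient.eq _).mpr ?_
    convert hS _ h using 1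
    funext i; simp
  choose σ b' hσ using toB_surj t ψ hψ n
  have key : ∀ b p, b - toB t ψ p ∈ Ideal.span {xB t B ^ n} → f (σ b) = f p := by
    intro b p h
    refine hcongr _ _ ?_
    have h' : b - toB t ψ (σ b) ∈ Ideal.span {xB t B ^ n} :=
      Ideal.mem_span_singleton.mpr ⟨b' b, by linear_combination hσ b⟩
    simpa using sub_mem h h'
  have hmem : ∀ b, b - toB t ψ (σ b) ∈ Ideal.span {xB t B ^ n} := fun b =>
    Ideal.mem_span_singleton.mpr ⟨b' b, by linear_combination hσ b⟩
  let lin : B →ₗ[R] (Fin r → B) ⧸ NN t a ψ n :=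
    { toFun := fun b => f (σ b)
      map_add' := fun b₁ b₂ => by
        rw [key (b₁ + b₂) (σ b₁ + σ b₂) (by
          rw [map_add, add_sub_add_comm]; exact add_mem (hmem b₁) (hmem b₂))]
        simp only [f, ← Submodule.Quotient.mk_add]
        congr 1
        funext i; simp
      map_smul' := fun s b => by
        rw [key (s • b) (s • σ b) (by
          rw [map_smul, ← smul_sub]
          exact Submodule.smul_of_tower_mem _ _ (hmem b))]
        simp only [f, RingHom.id_apply, ← Submodule.Quotient.mk_smul]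
        congr 1
        funext i; simp }
  let θ : Derivation R B ((Fin r → B) ⧸ NN t a ψ n) := Derivation.mk' lin fun b₁ b₂ => by
    show f (σ (b₁ * b₂)) = b₁ • f (σ b₂) + b₂ • f (σ b₁)
    rw [key (b₁ * b₂) (σ b₁ * σ b₂) (by
      rw [map_mul, show b₁ * b₂ - toB t ψ (σ b₁) * toB t ψ (σ b₂) =
        b₁ * (b₂ - toB t ψ (σ b₂)) + toB t ψ (σ b₂) * (b₁ - toB t ψ (σ b₁)) by ring]
      exact add_mem (Ideal.mul_mem_left _ _ (hmem b₂)) (Ideal.mul_mem_left _ _ (hmem b₁)))]
    simp only [f, ← Submodule.Quotient.mk_smul, ← Submodule.Quotient.mk_add]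
    refine (Submodule.Quotient.eq _).mpr ?_
    have e : (fun i => toB t ψ (pderiv i (σ b₁ * σ b₂))) -
        (b₁ • (fun i => toB t ψ (pderiv i (σ b₂))) + b₂ • fun i => toB t ψ (pderiv i (σ b₁))) =
        (toB t ψ (σ b₁) - b₁) • (fun i => toB t ψ (pderiv i (σ b₂))) +
          (toB t ψ (σ b₂) - b₂) • (fun i => toB t ψ (pderiv i (σ b₁))) := by
      funext i
      simp [pderiv_mul]
      ring
    rw [e]
    exact add_mem (mem_of_mem _ _ (by rw [← neg_sub]; exact neg_mem (hmem b₁)))
      (mem_of_mem _ _ (by rw [← neg_sub]; exact neg_mem (hmem b₂)))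
  have hθ : ∀ i, θ (toB t ψ (MvPolynomial.X i)) = Submodule.Quotient.mk (Pi.single i 1) := by
    intro i
    show f (σ (toB t ψ (MvPolynomial.X i))) = _
    rw [key _ (MvPolynomial.X i) (by simp)]
    simp only [f]
    congr 1
    funext k
    simp [pderiv_X, Pi.single_apply, eq_comm, apply_ite (toB t ψ)]
  have h1 : θ.liftKaehlerDifferential (dlt t ψ v) = Submodule.Quotient.mk v := by
    simp only [dlt, Fintype.linearCombination_apply, map_sum, map_smul, Derivation.liftKaehlerDifferential_comp_D, hθ]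
    conv_rhs => rw [pi_eq_sum_univ' v, ← Submodule.mkQ_apply, map_sum]
    simp only [map_smul, Submodule.mkQ_apply]
  rw [hv, map_smul] at h1
  obtain ⟨z, hz⟩ := Submodule.Quotient.mk_surjective _ (θ.liftKaehlerDifferential y)
  rw [← hz, ← Submodule.Quotient.mk_smul, Submodule.Quotient.eq] at h1
  simpa using sub_mem (xpow_mem_NN t a ψ n z) h1

/-- Completion of `dlt`. -/
def dltHat : (Fin r → B) →ₗ[B] AdicCompletion (Ideal.span {xB t B}) (KaehlerDifferential R B) :=
  (AdicCompletion.of _ _).comp (dlt t ψ)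

theorem dltHat_spec [IsNoetherianRing B] [IsAdicComplete (Ideal.span {xB t B}) B] (hψ : Function.Surjective ψ)
    (hker : RingHom.ker ψ.toRingHom = Ideal.span (Set.range a)) :
    Function.Surjective (dltHat t ψ) ∧ Function.Exact (jac t a ψ) (dltHat t ψ) := by
  classical
  let I : Ideal B := Ideal.span {xB t B}
  let M := (Fin r → B) ⧸ LinearMap.range (jac t a ψ)
  haveI : IsAdicComplete I M := Adic.Complete.isAdicComplete_of_finite
  have hzero : ∀ v, dltHat t ψ (jac t a ψ v) = 0 := fun v => by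
    refine AdicCompletion.ext fun n => ?_
    show Submodule.Quotient.mk (dlt t ψ (jac t a ψ v)) = (0 : _)
    rw [Submodule.Quotient.mk_eq_zero]
    obtain ⟨w, hw⟩ := dlt_jac t a ψ hψ hker n v
    rw [hw, Ideal.span_singleton_pow]
    exact Submodule.smul_mem_smul (Ideal.subset_span rfl) trivial
  refine ⟨fun y => ?_, fun v => ⟨fun hv => ?_, ?_⟩⟩
  · have hlev : ∀ n, ∃ v, (Submodule.Quotient.mk (dlt t ψ v) :
        KaehlerDifferential R B ⧸ (I ^ n • ⊤ : Submodule B (KaehlerDifferential R B))) = y.val n := by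
      intro n
      obtain ⟨z, hz⟩ := Submodule.Quotient.mk_surjective _ (y.val n)
      obtain ⟨v, w, hvw⟩ := exists_dlt_eq t ψ hψ n z
      refine ⟨v, hz ▸ ((Submodule.Quotient.eq _).mpr ?_)⟩
      rw [hvw, sub_add_cancel_left, Ideal.span_singleton_pow]
      exact neg_mem (Submodule.smul_mem_smul (Ideal.subset_span rfl) trivial)
    choose v hv using hlev
    let m : ℕ → M := fun n => Submodule.Quotient.mk (v n)
    have hcauchy : ∀ {p q : ℕ}, p ≤ q → m p ≡ m q [SMOD (I ^ p • ⊤ : Submodule B M)] := by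
      intro p q hpq
      have h1 := y.2 hpq
      rw [← hv p, ← hv q] at h1
      have h2 : (Submodule.Quotient.mk (dlt t ψ (v q)) : KaehlerDifferential R B ⧸
          (I ^ p • ⊤ : Submodule B (KaehlerDifferential R B))) = Submodule.Quotient.mk (dlt t ψ (v p)) := h1
      obtain ⟨w, hw⟩ := (smodEq_iff (xB t B) p _ _).mp (SModEq.def.mpr h2)
      rw [← map_sub] at hw
      obtain ⟨_, ⟨u', rfl⟩, _, hz, he⟩ := Submodule.mem_sup.mp (dlt_eq_smul_imp t a ψ hψ hker p _ _ hw)
      obtain ⟨z, _, rfl⟩ := (Submodule.mem_smul_pointwise_iff_exists _ _ _).mp hz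
      refine SModEq.symm ((smodEq_iff (xB t B) p _ _).mpr ⟨Submodule.Quotient.mk z, ?_⟩)
      simp only [m, ← Submodule.Quotient.mk_sub, ← Submodule.Quotient.mk_smul]
      refine (Submodule.Quotient.eq _).mpr ⟨u', ?_⟩
      show jac t a ψ u' = v q - v p - xB t B ^ p • z
      rw [← he]
      show _ = jac t a ψ u' + xB t B ^ p • z - xB t B ^ p • z
      abel
    obtain ⟨L, hL⟩ := IsPrecomplete.prec (I := I) inferInstance (f := m) hcauchy
    obtain ⟨l, rfl⟩ := Submodule.Quotient.mk_surjective _ L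
    refine ⟨l, AdicCompletion.ext fun n => ?_⟩
    show Submodule.Quotient.mk (dlt t ψ l) = y.val n
    rw [← hv n]
    obtain ⟨w, hw⟩ := (smodEq_iff (xB t B) n _ _).mp (hL n)
    obtain ⟨w, rfl⟩ := Submodule.Quotient.mk_surjective _ w
    simp only [m, ← Submodule.Quotient.mk_sub, ← Submodule.Quotient.mk_smul] at hw
    obtain ⟨u', hu'⟩ := (Submodule.Quotient.eq _).mp hw
    obtain ⟨z, hz⟩ := dlt_jac t a ψ hψ hker n u'
    refine SModEq.symm ((smodEq_iff (xB t B) n _ _).mpr ⟨dlt t ψ w + z, ?_⟩)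
    rw [smul_add, ← hz, ← map_smul, ← map_sub, ← map_add, hu']
    congr 1; abel
  · have hmem : (Submodule.Quotient.mk v : M) = 0 := by
      refine IsHausdorff.haus (I := I) inferInstance _ fun n => ?_
      have h1 : (Submodule.Quotient.mk (dlt t ψ v) : KaehlerDifferential R B ⧸
          (I ^ n • ⊤ : Submodule B (KaehlerDifferential R B))) = 0 := congrArg (fun z => z.val n) hv
      obtain ⟨w, hw⟩ := (smodEq_iff (xB t B) n _ _).mp (SModEq.def.mpr (h1.trans (Submodule.Quotient.mk_zero _).symm))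
      rw [sub_zero] at hw
      obtain ⟨_, ⟨u', rfl⟩, _, hz, he⟩ := Submodule.mem_sup.mp (dlt_eq_smul_imp t a ψ hψ hker n _ _ hw)
      obtain ⟨z, _, rfl⟩ := (Submodule.mem_smul_pointwise_iff_exists _ _ _).mp hz
      refine (smodEq_iff (xB t B) n _ _).mpr ⟨Submodule.Quotient.mk z, ?_⟩
      rw [sub_zero, ← Submodule.Quotient.mk_smul]
      refine (Submodule.Quotient.eq _).mpr ⟨u', ?_⟩
      rw [← he]; abel
    exact (Submodule.Quotient.mk_eq_zero _).mp hmem
  · rintro ⟨w, rfl⟩
    exact hzero w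

end Groth.Agent.Lib.Fit62
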