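import Groth.Agent.Lib.Fit62.PS
import Mathlib.LinearAlgebra.TensorProduct.Quotient

/-!
# The levels `B / t ^ m`
-/

set_option autoImplicit false
set_option linter.unusedSectionVars false

noncomputable section

universe u

open TensorProduct
open scoped Pointwise

namespace Groth.Agent.Lib.Fit62

theorem mem_smul_top_of_one_tmul_eq_zero {B : Type u} [CommRing B] {M : Type u} [AddCommGroup M] [Module B M]
    (I : Ideal B) (y : M) (h : (1 : B ⧸ I) ⊗ₜ[B] y = 0) : y ∈ I • (⊤ : Submodule B M) := by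
  rw [← Submodule.Quotient.mk_eq_zero, ← TensorProduct.quotTensorEquivQuotSMul_mk_one_tmul (M := M) I y, h,
    map_zero]

theorem exists_smul_of_one_tmul_eq_zero {B : Type u} [CommRing B] {M : Type u} [AddCommGroup M] [Module B M]
    (z : B) (y : M) (h : (1 : B ⧸ Ideal.span {z}) ⊗ₜ[B] y = 0) : ∃ w, y = z • w := by
  have h1 := mem_smul_top_of_one_tmul_eq_zero _ y h
  rw [Submodule.ideal_span_singleton_smul, Submodule.mem_smul_pointwise_iff_exists] at h1
  obtain ⟨w, _, hw⟩ := h1
  exact ⟨w, hw.symm⟩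

theorem nonempty_tensor_equiv {B : Type u} [CommRing B] {c r : ℕ} {E En : Type u} [AddCommGroup E] [Module B E]
    (z : B) [AddCommGroup En] [Module (B ⧸ Ideal.span {z}) En] (row : Fin r → Fin c → B)
    (Φ : (Fin c → B) →ₗ[B] E) (hΦ : Function.Surjective Φ)
    (hker : LinearMap.ker Φ = Submodule.span B (Set.range row))
    (Φn : (Fin c → B ⧸ Ideal.span {z}) →ₗ[B ⧸ Ideal.span {z}] En) (hΦn : Function.Surjective Φn)
    (hkern : LinearMap.ker Φn = Submodule.span (B ⧸ Ideal.span {z})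
      (Set.range fun i k => Ideal.Quotient.mk (Ideal.span {z}) (row i k))) :
    Nonempty ((B ⧸ Ideal.span {z}) ⊗[B] E ≃ₗ[B ⧸ Ideal.span {z}] En) := by
  classical
  let h : (Fin c → B ⧸ Ideal.span {z}) →ₗ[B ⧸ Ideal.span {z}] (B ⧸ Ideal.span {z}) ⊗[B] E :=
    Fintype.linearCombination (B ⧸ Ideal.span {z}) fun k => (1 : B ⧸ Ideal.span {z}) ⊗ₜ[B] Φ (Pi.single k 1)
  have key : ∀ v : Fin c → B, h (fun k => Ideal.Quotient.mk _ (v k)) = (1 : B ⧸ Ideal.span {z}) ⊗ₜ[B] Φ v := by
    intro v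
    simp only [h, Fintype.linearCombination_apply]
    conv_rhs => rw [pi_eq_sum_univ' v, map_sum, TensorProduct.tmul_sum]
    refine Finset.sum_congr rfl fun k _ => ?_
    rw [map_smul, TensorProduct.tmul_smul, ← algebraMap_smul (B ⧸ Ideal.span {z}) (v k)]
    rfl
  have hsurj : Function.Surjective h := by
    intro x
    induction x using TensorProduct.induction_on with
    | zero => exact ⟨0, map_zero _⟩
    | tmul b e =>
      obtain ⟨v, rfl⟩ := hΦ e
      exact ⟨b • fun k => Ideal.Quotient.mk _ (v k), by rw [map_smul, key, TensorProduct.smul_tmul', smul_eq_mul, mul_one]⟩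
    | add x y hx hy =>
      obtain ⟨v, rfl⟩ := hx
      obtain ⟨w, rfl⟩ := hy
      exact ⟨v + w, map_add _ _ _⟩
  have hk : LinearMap.ker h = LinearMap.ker Φn := by
    rw [hkern]
    refine le_antisymm (fun v hv => ?_) (Submodule.span_le.mpr ?_)
    · choose v' hv' using fun k => Ideal.Quotient.mk_surjective (v k)
      obtain rfl : v = fun k => Ideal.Quotient.mk _ (v' k) := funext fun k => (hv' k).symm
      rw [LinearMap.mem_ker, key] at hv
      obtain ⟨e, he⟩ := exists_smul_of_one_tmul_eq_zero z _ hv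
      obtain ⟨u', rfl⟩ := hΦ e
      have hmem : v' - z • u' ∈ Submodule.span B (Set.range row) := by
        rw [← hker, LinearMap.mem_ker, map_sub, map_smul, he, sub_self]
      obtain ⟨co, hco⟩ := (Submodule.mem_span_range_iff_exists_fun _).mp hmem
      rw [Submodule.mem_span_range_iff_exists_fun]
      refine ⟨fun i => Ideal.Quotient.mk _ (co i), funext fun k => ?_⟩
      have h2 := congrArg (Ideal.Quotient.mk (Ideal.span {z})) (congrFun hco k)
      simp only [Finset.sum_apply, Pi.smul_apply, smul_eq_mul, map_sum, map_mul, Pi.sub_apply, map_sub,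
        Ideal.Quotient.mk_singleton_self, zero_mul, sub_zero] at h2 ⊢
      exact h2
    · rintro _ ⟨i, rfl⟩
      show h (fun k => Ideal.Quotient.mk _ (row i k)) = 0
      rw [key, show Φ (row i) = 0 from hker.ge (Submodule.subset_span ⟨i, rfl⟩), TensorProduct.tmul_zero]
  exact ⟨(h.quotKerEquivOfSurjective hsurj).symm.trans
    ((Submodule.quotEquivOfEq _ _ hk).trans (Φn.quotKerEquivOfSurjective hΦn))⟩

variable {R : Type u} [CommRing R] (t : R) {r c : ℕ} (a : Fin c → RP t r) {B : Type u} [CommRing B]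
  [Algebra R B] (ψ : RP t r →ₐ[R] B) [IsPrecomplete (Ideal.span {xB t B}) B]

/-- The Jacobian map modulo `t ^ m`. -/
def jacL (m : ℕ) : (Fin c → B ⧸ Ideal.span {xB t B ^ m}) →ₗ[B ⧸ Ideal.span {xB t B ^ m}]
    (Fin r → B ⧸ Ideal.span {xB t B ^ m}) :=
  Fintype.linearCombination _ fun j i => Ideal.Quotient.mk (Ideal.span {xB t B ^ m}) (jc t a ψ i j)

/-- `B_m^r → Ω_{B_m/R}`. -/
def dltL (m : ℕ) : (Fin r → B ⧸ Ideal.span {xB t B ^ m}) →ₗ[B ⧸ Ideal.span {xB t B ^ m}]
    KaehlerDifferential R (B ⧸ Ideal.span {xB t B ^ m}) :=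
  Fintype.linearCombination _ fun i => KaehlerDifferential.D R _
    (Ideal.Quotient.mk (Ideal.span {xB t B ^ m}) (toB t ψ (MvPolynomial.X i)))

theorem jacL_mk (m : ℕ) (v : Fin c → B) :
    jacL t a ψ m (fun j => Ideal.Quotient.mk _ (v j)) = fun i => Ideal.Quotient.mk _ (jac t a ψ v i) := by
  funext i
  simp only [jacL, jac, Fintype.linearCombination_apply, Finset.sum_apply, Pi.smul_apply, smul_eq_mul, map_sum,
    map_mul]

theorem dltL_mk (m : ℕ) (v : Fin r → B) : dltL t ψ m (fun i => Ideal.Quotient.mk _ (v i)) =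
    KaehlerDifferential.map R R B (B ⧸ Ideal.span {xB t B ^ m}) (dlt t ψ v) := by
  simp only [dltL, dlt, Fintype.linearCombination_apply, map_sum, map_smul, KaehlerDifferential.map_D]
  refine Finset.sum_congr rfl fun i _ => ?_
  rw [← algebraMap_smul (B ⧸ Ideal.span {xB t B ^ m}) (v i)]
  rfl

theorem map_xpow_smul (m : ℕ) (w : KaehlerDifferential R B) :
    KaehlerDifferential.map R R B (B ⧸ Ideal.span {xB t B ^ m}) (xB t B ^ m • w) = 0 := by
  rw [map_smul, ← algebraMap_smul (B ⧸ Ideal.span {xB t B ^ m}) (xB t B ^ m), Ideal.Quotient.algebraMap_eq,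
    Ideal.Quotient.mk_singleton_self, zero_smul]

theorem dltL_spec (hψ : Function.Surjective ψ) (hker : RingHom.ker ψ.toRingHom = Ideal.span (Set.range a))
    (m : ℕ) : Function.Surjective (dltL t ψ m) ∧ Function.Exact (jacL t a ψ m) (dltL t ψ m) := by
  classical
  have hsurj : Function.Surjective (algebraMap B (B ⧸ Ideal.span {xB t B ^ m})) := Ideal.Quotient.mk_surjective
  refine ⟨fun y => ?_, fun v => ⟨fun hv => ?_, ?_⟩⟩
  · obtain ⟨y', rfl⟩ := KaehlerDifferential.map_surjective_of_surjective R R B (B ⧸ Ideal.span {xB t B ^ m}) hsurj y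
    obtain ⟨v, w, rfl⟩ := exists_dlt_eq t ψ hψ m y'
    exact ⟨fun i => Ideal.Quotient.mk _ (v i), by rw [dltL_mk, map_add, map_xpow_smul, add_zero]⟩
  · choose v' hv' using fun i => Ideal.Quotient.mk_surjective (v i)
    obtain rfl : v = fun i => Ideal.Quotient.mk _ (v' i) := funext fun i => (hv' i).symm
    rw [dltL_mk] at hv
    have h0 : (1 : B ⧸ Ideal.span {xB t B ^ m}) ⊗ₜ[B] dlt t ψ v' = 0 := by
      obtain ⟨z, hz⟩ := (KaehlerDifferential.exact_kerCotangentToTensor_mapBaseChange R B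
        (B ⧸ Ideal.span {xB t B ^ m}) hsurj ((1 : B ⧸ Ideal.span {xB t B ^ m}) ⊗ₜ[B] dlt t ψ v')).mp
          (by rw [KaehlerDifferential.mapBaseChange_tmul, one_smul, hv])
      rw [← hz]
      obtain ⟨⟨b, hb⟩, rfl⟩ := Ideal.toCotangent_surjective _ z
      rw [KaehlerDifferential.kerCotangentToTensor_toCotangent]
      have hb' : b ∈ Ideal.span {xB t B ^ m} := Ideal.Quotient.eq_zero_iff_mem.mp hb
      obtain ⟨b', rfl⟩ := Ideal.mem_span_singleton.mp hb'
      rw [show (⟨xB t B ^ m * b', hb⟩ : RingHom.ker (algebraMap B (B ⧸ Ideal.span {xB t B ^ m}))).1 = xB t B ^ m * b'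
        from rfl, D_xpow_mul, TensorProduct.tmul_smul, ← algebraMap_smul (B ⧸ Ideal.span {xB t B ^ m}) (xB t B ^ m),
        Ideal.Quotient.algebraMap_eq, Ideal.Quotient.mk_singleton_self, zero_smul]
    obtain ⟨w, hw⟩ := exists_smul_of_one_tmul_eq_zero _ _ h0
    obtain ⟨_, ⟨u', rfl⟩, _, hz, he⟩ := Submodule.mem_sup.mp (dlt_eq_smul_imp t a ψ hψ hker m _ _ hw)
    obtain ⟨z, _, rfl⟩ := (Submodule.mem_smul_pointwise_iff_exists _ _ _).mp hz
    refine ⟨fun j => Ideal.Quotient.mk _ (u' j), ?_⟩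
    rw [jacL_mk]
    funext i
    have h2 := congrArg (Ideal.Quotient.mk (Ideal.span {xB t B ^ m})) (congrFun he i)
    simpa [Ideal.Quotient.mk_singleton_self] using h2
  · rintro ⟨w, rfl⟩
    choose w' hw' using fun j => Ideal.Quotient.mk_surjective (w j)
    obtain rfl : w = fun j => Ideal.Quotient.mk _ (w' j) := funext fun j => (hw' j).symm
    rw [jacL_mk, dltL_mk]
    obtain ⟨u', hu'⟩ := dlt_jac t a ψ hψ hker m w'
    rw [hu', map_xpow_smul]

theorem jacL_injective (m : ℕ)
    (h : ∀ (v : Fin c → B) (w : Fin r → B), jac t a ψ v = xB t B ^ m • w → ∃ v', v = xB t B ^ m • v') :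
    Function.Injective (jacL t a ψ m) := by
  classical
  rw [injective_iff_map_eq_zero]
  intro v hv
  choose v' hv' using fun j => Ideal.Quotient.mk_surjective (v j)
  obtain rfl : v = fun j => Ideal.Quotient.mk _ (v' j) := funext fun j => (hv' j).symm
  rw [jacL_mk] at hv
  choose w hw using fun i => Ideal.mem_span_singleton.mp (Ideal.Quotient.eq_zero_iff_mem.mp (congrFun hv i))
  obtain ⟨v'', rfl⟩ := h v' w (funext hw)
  funext j
  exact Ideal.Quotient.eq_zero_iff_mem.mpr (Ideal.mem_span_singleton.mpr ⟨v'' j, rfl⟩)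

end Groth.Agent.Lib.Fit62
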