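import Groth.Agent.Lib.Fit62.Complete
import Mathlib.RingTheory.PowerSeries.Inverse
import Mathlib.Algebra.MvPolynomial.PDeriv
import Mathlib.LinearAlgebra.TensorProduct.RightExactness
import Mathlib.LinearAlgebra.TensorProduct.Pi

/-!
# Reduced special fibre: the Jacobian map is injective; level-wise results
-/

set_option autoImplicit false
set_option linter.unusedSectionVars false

noncomputable section

universe u

open TensorProduct MvPolynomial
open scoped Pointwise

namespace Groth.Agent.Lib.Fit62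

theorem reg_map {A A' : Type u} [CommRing A] [CommRing A'] (e : A ≃+* A') {c : ℕ} (g : Fin c → A)
    (h : GrCI62.Reg g) (g' : Fin c → A') (hg : ∀ i, e (g i) = g' i) : GrCI62.Reg g' := by
  intro i x hx
  have hp : GrCI62.pre g' i = (GrCI62.pre g i).map e.toRingHom := by
    rw [GrCI62.pre, GrCI62.pre, Ideal.map_span, ← Set.image_comp]
    congr 1
    exact Set.image_congr fun j _ => (hg j).symm
  rw [hp] at hx ⊢
  obtain ⟨y, hy, hyx⟩ := (Ideal.mem_map_iff_of_surjective e.toRingHom e.surjective).mp hx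
  obtain ⟨x', rfl⟩ := e.surjective x
  have : y = x' * g i := e.injective (by rw [map_mul, hg]; exact hyx)
  exact Ideal.mem_map_of_mem e.toRingHom (h i x' (this ▸ hy))

theorem eq_zero_of_jac_eq_zero {k A : Type u} [Field k] [PerfectField k] [CommRing A] [IsReduced A]
    [Algebra k A] {r c : ℕ} (φ : MvPolynomial (Fin r) k →ₐ[k] A) (hφ : Function.Surjective φ)
    (a : Fin c → MvPolynomial (Fin r) k) (ha : GrCI62.Reg a)
    (hker : RingHom.ker φ.toRingHom = Ideal.span (Set.range a)) (v : Fin c → A)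
    (hv : ∀ i, ∑ j, v j * φ (pderiv i (a j)) = 0) : v = 0 := by
  classical
  letI : Algebra (MvPolynomial (Fin r) k) A := φ.toRingHom.toAlgebra
  haveI : IsScalarTower k (MvPolynomial (Fin r) k) A := IsScalarTower.of_algebraMap_eq fun x => (φ.commutes x).symm
  haveI : Algebra.FiniteType k A := Algebra.FiniteType.of_surjective φ hφ
  have hsurj : Function.Surjective (algebraMap (MvPolynomial (Fin r) k) A) := hφ
  choose g hg using fun j => hφ (v j)
  have hmem : ∀ j, a j ∈ RingHom.ker (algebraMap (MvPolynomial (Fin r) k) A) := fun j =>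
    hker.ge (Ideal.subset_span ⟨j, rfl⟩)
  have hzmem : ∑ j, g j * a j ∈ RingHom.ker (algebraMap (MvPolynomial (Fin r) k) A) :=
    Ideal.sum_mem _ fun j _ => Ideal.mul_mem_left _ _ (hmem j)
  let x := Ideal.toCotangent (RingHom.ker (algebraMap (MvPolynomial (Fin r) k) A)) ⟨_, hzmem⟩
  have hx : KaehlerDifferential.kerCotangentToTensor k (MvPolynomial (Fin r) k) A x = 0 := by
    rw [KaehlerDifferential.kerCotangentToTensor_toCotangent]
    refine ((KaehlerDifferential.mvPolynomialBasis k (Fin r)).baseChange A).repr.injective (Finsupp.ext fun i => ?_)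
    rw [map_zero, Finsupp.zero_apply, Module.Basis.baseChange_repr_tmul, KaehlerDifferential.mvPolynomialBasis_repr_apply,
      Algebra.smul_def, mul_one]
    show φ (pderiv i (∑ j, g j * a j)) = 0
    rw [map_sum, map_sum, ← hv i]
    refine Finset.sum_congr rfl fun j _ => ?_
    rw [pderiv_mul, map_add, map_mul, map_mul, hg, show φ (a j) = 0 from hmem j, mul_zero, zero_add]
  funext j
  have hmin : v j ∈ sInf (minimalPrimes A) := by
    refine Submodule.mem_sInf.mpr fun q hq => ?_
    obtain ⟨s, hs, hsx⟩ := exists_smul_eq_zero_of_mem_ker hsurj x hx q hq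
    rw [← map_smul, Ideal.toCotangent_eq_zero] at hsx
    have hJ : RingHom.ker (algebraMap (MvPolynomial (Fin r) k) A) = Ideal.span (Set.range a) := hker
    have hb : ∀ z ∈ Ideal.span (Set.range a) * Ideal.span (Set.range a), ∃ b : Fin c → MvPolynomial (Fin r) k,
        (∀ j, b j ∈ Ideal.span (Set.range a)) ∧ z = ∑ j, b j * a j := by
      intro z hz
      refine Submodule.mul_induction_on hz (fun x hx y hy => ?_) (fun x y hx hy => ?_)
      · obtain ⟨co, hco⟩ := (Submodule.mem_span_range_iff_exists_fun _).mp hy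
        refine ⟨fun j => x * co j, fun j => Ideal.mul_mem_right _ _ hx, ?_⟩
        rw [← hco, Finset.mul_sum]
        exact Finset.sum_congr rfl fun j _ => by rw [smul_eq_mul, mul_assoc]
      · obtain ⟨b, hb, rfl⟩ := hx
        obtain ⟨co, hc, rfl⟩ := hy
        exact ⟨b + co, fun j => add_mem (hb j) (hc j), by simp [add_mul, Finset.sum_add_distrib]⟩
    have hsx2 : s * ∑ j, g j * a j ∈ (RingHom.ker (algebraMap (MvPolynomial (Fin r) k) A)) ^ 2 := hsx
    rw [pow_two, hJ] at hsx2
    obtain ⟨b, hb, hab⟩ := hb _ hsx2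
    have h0 := Det62.coeff_mem_of_sum_eq_zero ha c le_rfl (fun j => s * g j - b j)
      (fun j hj => absurd j.2 (by omega)) (by
        simp only [sub_mul, Finset.sum_sub_distrib, ← hab, mul_assoc, ← Finset.mul_sum, sub_self]) j
    have h1 : algebraMap (MvPolynomial (Fin r) k) A (s * g j) = 0 := by
      have := add_mem h0 (hb j)
      rw [sub_add_cancel, ← hJ] at this
      exact this
    rw [map_mul] at h1
    have h2 : algebraMap (MvPolynomial (Fin r) k) A s * algebraMap (MvPolynomial (Fin r) k) A (g j) ∈ q :=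
      h1 ▸ q.zero_mem
    rw [← hg j]
    exact ((Ideal.minimalPrimes_isPrime hq).mem_or_mem h2).resolve_left hs
  rw [minimalPrimes, Ideal.sInf_minimalPrimes, show (⊥ : Ideal A).radical = nilradical A from rfl,
    nilradical_eq_zero] at hmin
  exact hmin

variable {k : Type u} [Field k] [PerfectField k] {r c : ℕ}

abbrev tX (k : Type u) [Field k] : PowerSeries k := PowerSeries.X

variable (a : Fin c → RP (tX k) r) {B : Type u} [CommRing B] [Algebra (PowerSeries k) B]
  (ψ : RP (tX k) r →ₐ[PowerSeries k] B) [IsPrecomplete (Ideal.span {xB (tX k) B}) B]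

theorem dvd_of_map_eq_zero (p : MvPolynomial (Fin r) (PowerSeries k))
    (h : MvPolynomial.map PowerSeries.constantCoeff p = 0) : MvPolynomial.C (tX k) ∣ p := by
  rw [MvPolynomial.C_dvd_iff_dvd_coeff]
  intro m
  rw [PowerSeries.X_dvd_iff]
  have := congrArg (MvPolynomial.coeff m) h
  simpa [MvPolynomial.coeff_map] using this

variable [IsReduced (B ⧸ Ideal.span {algebraMap (PowerSeries k) B PowerSeries.X})]

theorem jac_mem_imp (hψ : Function.Surjective ψ) (hker : RingHom.ker ψ.toRingHom = Ideal.span (Set.range a))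
    (hreg : RingTheory.Sequence.IsRegular
      (RP (tX k) r ⧸ Ideal.span {algebraMap (PowerSeries k) (RP (tX k) r) PowerSeries.X ^ (0 + 1)})
      ((List.ofFn a).map (Ideal.Quotient.mk (Ideal.span {algebraMap (PowerSeries k) (RP (tX k) r) PowerSeries.X ^ (0 + 1)}))))
    (v : Fin c → B) (w : Fin r → B) (hv : jac (tX k) a ψ v = xB (tX k) B • w) :
    ∃ v', v = xB (tX k) B • v' := by
  classical
  let π₀ := Ideal.Quotient.mk (Ideal.span {algebraMap (PowerSeries k) B PowerSeries.X})
  letI : Algebra k (B ⧸ Ideal.span {algebraMap (PowerSeries k) B PowerSeries.X}) :=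
    (π₀.comp ((algebraMap (PowerSeries k) B).comp PowerSeries.C)).toAlgebra
  let φ₀ : MvPolynomial (Fin r) k →ₐ[k] B ⧸ Ideal.span {algebraMap (PowerSeries k) B PowerSeries.X} :=
    MvPolynomial.aeval fun i => π₀ (toB (tX k) ψ (MvPolynomial.X i))
  let cc : MvPolynomial (Fin r) (PowerSeries k) →+* MvPolynomial (Fin r) k := MvPolynomial.map PowerSeries.constantCoeff
  have hπx : π₀ (xB (tX k) B) = 0 := Ideal.Quotient.eq_zero_iff_mem.mpr (Ideal.subset_span rfl)
  have key : ∀ p, π₀ (toB (tX k) ψ p) = φ₀ (cc p) := by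
    suffices h : π₀.comp (toB (tX k) ψ).toRingHom = φ₀.toRingHom.comp cc from fun p => RingHom.congr_fun h p
    refine MvPolynomial.ringHom_ext (fun s => ?_) (fun i => ?_)
    · show π₀ (toB (tX k) ψ (MvPolynomial.C s)) = φ₀ (cc (MvPolynomial.C s))
      rw [show cc (MvPolynomial.C s) = MvPolynomial.C (PowerSeries.constantCoeff s) from MvPolynomial.map_C _ _,
        show φ₀ (MvPolynomial.C (PowerSeries.constantCoeff s)) = π₀ (algebraMap (PowerSeries k) B (PowerSeries.C (PowerSeries.constantCoeff s))) from φ₀.commutes _,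
        show toB (tX k) ψ (MvPolynomial.C s) = algebraMap (PowerSeries k) B s from (toB (tX k) ψ).commutes s]
      obtain ⟨s', hs'⟩ : PowerSeries.X ∣ s - PowerSeries.C (PowerSeries.constantCoeff s) :=
        PowerSeries.X_dvd_iff.mpr (by simp)
      rw [← sub_eq_zero, ← map_sub, ← map_sub, hs', map_mul, map_mul, hπx, zero_mul]
    · show π₀ (toB (tX k) ψ (MvPolynomial.X i)) = φ₀ (cc (MvPolynomial.X i))
      simp [cc, φ₀]
  have hcc : Function.Surjective cc :=
    MvPolynomial.map_surjective _ PowerSeries.constantCoeff_surj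
  have hφ₀ : Function.Surjective φ₀ := by
    intro y
    obtain ⟨b, rfl⟩ := Ideal.Quotient.mk_surjective y
    obtain ⟨p, b', rfl⟩ := toB_surj (tX k) ψ hψ 1 b
    exact ⟨cc p, by rw [map_add, map_mul, map_pow, hπx, zero_pow one_ne_zero, zero_mul, add_zero, key]⟩
  have hCt : ∀ s : ℕ, cc (MvPolynomial.C (tX k ^ (s + 1))) = 0 := fun s => by simp [cc, tX]
  let a₀ : Fin c → MvPolynomial (Fin r) k := fun j => cc (lft (tX k) a 1 j)
  have hker₀ : RingHom.ker φ₀.toRingHom = Ideal.span (Set.range a₀) := by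
    refine le_antisymm (fun q hq => ?_) (Ideal.span_le.mpr ?_)
    · obtain ⟨p, rfl⟩ := hcc q
      have h : toB (tX k) ψ p ∈ Ideal.span {xB (tX k) B ^ 1} := by
        rw [pow_one]
        exact Ideal.Quotient.eq_zero_iff_mem.mp ((key p).trans hq)
      have h2 := Ideal.mem_map_of_mem cc (mem_of_toB_mem (tX k) a ψ hψ hker h)
      rw [Ideal.map_span] at h2
      refine Ideal.span_le.mpr ?_ h2
      rintro _ ⟨z, (⟨j, rfl⟩ | rfl), rfl⟩
      · exact Ideal.subset_span ⟨j, rfl⟩
      · simp only [hCt 0, SetLike.mem_coe, zero_mem]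
    · rintro _ ⟨j, rfl⟩
      show φ₀ (cc (lft (tX k) a 1 j)) = 0
      rw [← key]
      exact Ideal.Quotient.eq_zero_iff_mem.mpr (by simpa [pow_one] using toB_lft (tX k) a ψ hker 1 j)
  have hreg₀ : GrCI62.Reg a₀ := by
    have hH : ∀ p ∈ (PI (tX k) r) ^ 1, cc p = 0 := fun p hp => by
      rw [PI_pow, Ideal.mem_span_singleton] at hp
      obtain ⟨q, rfl⟩ := hp
      rw [map_mul, hCt 0, zero_mul]
    let Φ : RP (tX k) r →+* MvPolynomial (Fin r) k :=
      (Ideal.Quotient.lift ((PI (tX k) r) ^ 1) cc hH).comp (AdicCompletion.evalₐ (PI (tX k) r) 1).toRingHom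
    have hΦι : ∀ p, Φ (algebraMap _ _ p) = cc p := fun p => by
      show Ideal.Quotient.lift _ cc hH (AdicCompletion.evalₐ (PI (tX k) r) 1 (algebraMap _ _ p)) = _
      rw [AlgHom.commutes]
      rfl
    have hΦτ : ∀ w, Φ (algebraMap (PowerSeries k) (RP (tX k) r) (tX k) ^ 1 * w) = 0 := fun w => by
      show Ideal.Quotient.lift _ cc hH (AdicCompletion.evalₐ (PI (tX k) r) 1 _) = _
      rw [(evalₐ_eq_zero_iff' (tX k) 1 _).2 ⟨w, rfl⟩, map_zero]
    have hΦ : Function.Surjective Φ := fun q => by
      obtain ⟨p, rfl⟩ := hcc q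
      exact ⟨_, hΦι p⟩
    have hK : Ideal.span {algebraMap (PowerSeries k) (RP (tX k) r) PowerSeries.X ^ (0 + 1)} = RingHom.ker Φ := by
      rw [zero_add]; simp only [pow_one]
      refine le_antisymm ((Ideal.span_singleton_le_iff_mem _).mpr ?_) fun q hq => ?_
      · rw [RingHom.mem_ker]
        simpa using hΦτ 1
      · obtain ⟨p, w, rfl⟩ := exists_lift' (tX k) 1 q
        rw [RingHom.mem_ker, map_add, hΦι, hΦτ, add_zero] at hq
        obtain ⟨p', rfl⟩ := dvd_of_map_eq_zero p hq
        refine Ideal.mem_span_singleton.mpr ⟨algebraMap _ (RP (tX k) r) p' + w, ?_⟩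
        rw [map_mul, ← MvPolynomial.algebraMap_eq, ← IsScalarTower.algebraMap_apply]
        ring
    have hw := hreg.toIsWeaklyRegular
    rw [List.map_ofFn] at hw
    refine reg_map ((Ideal.quotEquivOfEq hK).trans (RingHom.quotientKerEquivOfSurjective hΦ)) _
      ((GrCI62.isWeaklyRegular_iff _).mp hw) a₀ fun j => ?_
    show Φ (a j) = a₀ j
    obtain ⟨w, hw⟩ := lft_spec (tX k) a 1 j
    rw [hw, map_add, hΦι, hΦτ, add_zero]
  have hz : (fun j => π₀ (v j)) = 0 := by
    refine eq_zero_of_jac_eq_zero φ₀ hφ₀ a₀ hreg₀ hker₀ _ fun i => ?_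
    have h := congrArg π₀ (congrFun hv i)
    simp only [jac, Fintype.linearCombination_apply, Finset.sum_apply, Pi.smul_apply, smul_eq_mul, map_sum,
      map_mul, hπx, zero_mul] at h
    rw [← h]
    refine Finset.sum_congr rfl fun j _ => ?_
    obtain ⟨u', hu'⟩ := jc_spec (tX k) a ψ 1 i j
    rw [hu', map_add, map_mul, map_pow, hπx, zero_pow one_ne_zero, zero_mul, add_zero, key]
    simp only [a₀, cc, MvPolynomial.pderiv_map]
  choose v' hv' using fun j => Ideal.mem_span_singleton.mp (Ideal.Quotient.eq_zero_iff_mem.mp (congrFun hz j))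
  exact ⟨v', funext hv'⟩

variable [Module.Flat (PowerSeries k) B]

theorem smul_regular_xB {M : Type u} (ι : Type) (m m' : ι → B) (h : xB (tX k) B • m = xB (tX k) B • m') :
    m = m' := by
  have hr : IsSMulRegular B (tX k) := by
    have h0 : IsSMulRegular (PowerSeries k) (tX k) := fun p q hpq => mul_left_cancel₀ PowerSeries.X_ne_zero hpq
    exact fun p q hpq => by
      have := IsSMulRegular.of_flat (S := B) h0
      refine this ?_
      simpa [xB, Algebra.smul_def] using hpq
  funext i
  refine hr ?_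
  simpa [xB, Algebra.smul_def] using congrFun h i

theorem jac_pow_mem_imp (hψ : Function.Surjective ψ) (hker : RingHom.ker ψ.toRingHom = Ideal.span (Set.range a))
    (hreg : RingTheory.Sequence.IsRegular
      (RP (tX k) r ⧸ Ideal.span {algebraMap (PowerSeries k) (RP (tX k) r) PowerSeries.X ^ (0 + 1)})
      ((List.ofFn a).map (Ideal.Quotient.mk (Ideal.span {algebraMap (PowerSeries k) (RP (tX k) r) PowerSeries.X ^ (0 + 1)})))) :
    ∀ (n : ℕ) (v : Fin c → B) (w : Fin r → B), jac (tX k) a ψ v = xB (tX k) B ^ n • w →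
      ∃ v', v = xB (tX k) B ^ n • v' := by
  intro n
  induction n with
  | zero => intro v w _; exact ⟨v, by rw [pow_zero, one_smul]⟩
  | succ n ih =>
    intro v w h
    obtain ⟨v₁, rfl⟩ := jac_mem_imp a ψ hψ hker hreg v (xB (tX k) B ^ n • w) (by rw [h, smul_smul, ← pow_succ'])
    rw [map_smul, pow_succ', mul_smul] at h
    obtain ⟨v₂, rfl⟩ := ih v₁ w (smul_regular_xB (M := B) (Fin r) _ _ h)
    exact ⟨v₂, by rw [smul_smul, ← pow_succ']⟩

theorem jac_injective [IsHausdorff (Ideal.span {xB (tX k) B}) B] (hψ : Function.Surjective ψ)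
    (hker : RingHom.ker ψ.toRingHom = Ideal.span (Set.range a))
    (hreg : RingTheory.Sequence.IsRegular
      (RP (tX k) r ⧸ Ideal.span {algebraMap (PowerSeries k) (RP (tX k) r) PowerSeries.X ^ (0 + 1)})
      ((List.ofFn a).map (Ideal.Quotient.mk (Ideal.span {algebraMap (PowerSeries k) (RP (tX k) r) PowerSeries.X ^ (0 + 1)})))) :
    Function.Injective (jac (tX k) a ψ) := by
  rw [injective_iff_map_eq_zero]
  intro v hv
  funext j
  refine IsHausdorff.haus (I := Ideal.span {xB (tX k) B}) inferInstance _ fun n => ?_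
  obtain ⟨v', hv'⟩ := jac_pow_mem_imp a ψ hψ hker hreg n v 0 (by rw [hv, smul_zero])
  exact (smodEq_iff (xB (tX k) B) n _ _).mpr ⟨v' j, by rw [sub_zero, hv']; rfl⟩

end Groth.Agent.Lib.Fit62
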